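import Mathlib

/-!
The 63 non-isotropic points for `SU₃(3)`: representatives and a lookup table.
-/

set_option autoImplicit false

namespace Cfsg.Agent.Lib.SmallUnitary

/-- Normalised representatives, by numbers of coordinates. -/
def nonIsoPts : List (Fin 9 × Fin 9 × Fin 9) := [(0, 1, 0), (0, 1, 1), (0, 1, 2), (0, 1, 3), (0, 1, 4), (0, 1, 5), (0, 1, 6), (0, 1, 7), (0, 1, 8), (1, 0, 1), (1, 0, 2), (1, 0, 4), (1, 0, 5), (1, 0, 7), (1, 0, 8), (1, 1, 0), (1, 1, 2), (1, 1, 3), (1, 1, 5), (1, 1, 6), (1, 1, 8), (1, 2, 0), (1, 2, 2), (1, 2, 3), (1, 2, 5), (1, 2, 6), (1, 2, 8), (1, 3, 0), (1, 3, 2), (1, 3, 3), (1, 3, 5), (1, 3, 6), (1, 3, 8), (1, 4, 0), (1, 4, 1), (1, 4, 3), (1, 4, 4), (1, 4, 6), (1, 4, 7), (1, 5, 0), (1, 5, 1), (1, 5, 3), (1, 5, 4), (1, 5, 6), (1, 5, 7), (1, 6, 0), (1, 6, 2), (1, 6, 3), (1, 6, 5), (1, 6, 6), (1, 6, 8), (1, 7, 0), (1, 7, 1), (1, 7, 3), (1, 7, 4), (1, 7, 6), (1, 7, 7), (1, 8, 0), (1, 8, 1), (1, 8, 3), (1, 8, 4), (1, 8, 6),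 (1, 8, 7)]

/-- The point of a vector, in six-bit blocks indexed by `81 x + 9 y + z`. -/
def nonIsoTab : ℕ := 0x4544d001200f01d81f7007806faec0f40f00fb902fcb1b80c00b405da6560180158a3025024026868a40ac0a80b27d35037036038cc900e00a2cc340c40c2ebc0032b5301241100050fae8000a6ca809d90185970006957c079c7400206f7d00035e360339620008e690087de8003bfbc03900930a00d2ce038db4000037d739a488000096384000051241344ffbce80000f7be6caa800002ba6700001a616657540000cb0bb1bed00002079c7dd6cd2c938c28000075c0007de8006d758001961a015d40e34dc0036cd140001349400fbee000c70c80b6902ca2b000aa7ec0fbaf4003ce630268a500092100a34900c38b0166405c0680615bb102f032030b409648e202602171f01d02001e6d04c044050048f03df3be80f80e40df6d7403803302baa9a00b009ca00b00938d30000002ab28a6b9c0000f3eebbf7961a5800005d95400009268a3961000036e34d77cd25100000114cf7a070000075f6f0cae00002fc6d30e28b349000024023980962021a80a6c02ba009c079d0207c071bd80d78037d00cfc03bf80f7a039030bc0cb102eb404910144c040f0185c069901654b30034e00928003ef40f3b03ae40e37036d40d33c80c7002fb80b40b2b02aa40a2702694092302286001f78075c01b68065801758055401348045000f38d00c2c02890010c81821051c01811420c71080071012050860c00c21c11852040021840c12071401480841c10c60041431c8181080207185103081000000000000000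

end Cfsg.Agent.Lib.SmallUnitary
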