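import Cfsg.Agent.Lib.SmallUnitary.Model
import Cfsg.Agent.Lib.SmallUnitary.NonIsoData
import Cfsg.Agent.Lib.Compute.Perm

/-!
The action of `SU₃(3)` on the 63 non-isotropic points.
-/

set_option autoImplicit false
set_option maxRecDepth 100000

namespace Cfsg.Agent.Lib.SmallUnitary

open UThreeThree Matrix

/-- The hermitian form on a vector, as a product. -/
def qForm (v : Fin 3 → Nine) : Nine := ((fun i => v i ^ 3) ᵥ* formJ) ⬝ᵥ v

/-- The representative of a point. -/
def ptVec (i : Fin 63) : Fin 3 → Nine :=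
  ![⟨(nonIsoPts.getD i.1 (0, 0, 0)).1⟩, ⟨(nonIsoPts.getD i.1 (0, 0, 0)).2.1⟩,
    ⟨(nonIsoPts.getD i.1 (0, 0, 0)).2.2⟩]

/-- The point of a vector, by the table. -/
noncomputable def vecPt (v : Fin 3 → Nine) : Fin 63 :=
  ⟨Compute.getP 6 nonIsoTab (81 * (v 0).num.val + 9 * (v 1).num.val + (v 2).num.val) % 63,
    Nat.mod_lt _ (by norm_num)⟩

theorem ptVec_qForm : ∀ i, qForm (ptVec i) ≠ 0 := by decide +kernel

theorem vecPt_smul : ∀ (i : Fin 63) (c : Nine), c ≠ 0 → vecPt (fun j => c * ptVec i j) = i := by decide +kernel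

theorem vec_eq_smul : ∀ x y z : Nine, qForm ![x, y, z] ≠ 0 →
    ∃ c : Nine, ∀ j, ![x, y, z] j = c * ptVec (vecPt ![x, y, z]) j := by decide +kernel

theorem exists_scalar {v : Fin 3 → Nine} (h : qForm v ≠ 0) :
    ∃ c : Nine, c ≠ 0 ∧ v = fun j => c * ptVec (vecPt v) j := by
  have e : ![v 0, v 1, v 2] = v := by funext j; fin_cases j <;> rfl
  obtain ⟨c, hc⟩ := vec_eq_smul (v 0) (v 1) (v 2) (by rwa [e])
  rw [e] at hc
  refine ⟨c, fun h0 => h ?_, funext hc⟩
  rw [show v = 0 from funext fun j => by rw [hc j, h0, zero_mul]; rfl]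
  simp [qForm]

theorem qForm_mulVec {A : M9} (hA : Cond A) (v : Fin 3 → Nine) : qForm (A *ᵥ v) = qForm v := by
  have h1 : (fun i => (A *ᵥ v) i ^ 3) = (fun i => v i ^ 3) ᵥ* (A.map fun x => x ^ 3).transpose := by
    funext i
    rw [Matrix.vecMul_transpose]
    show Semisimple.qHom UThreeThree.hq ((A *ᵥ v) i) = _
    rw [RingHom.map_mulVec]
    rfl
  rw [qForm, h1, Matrix.vecMul_vecMul, Matrix.dotProduct_mulVec, Matrix.vecMul_vecMul, hA.1]
  rfl

/-- The image of a point under a matrix. -/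
noncomputable def ptImage (A : M9) (i : Fin 63) : Fin 63 := vecPt (A *ᵥ ptVec i)

theorem ptImage_one (i : Fin 63) : ptImage 1 i = i := by
  rw [ptImage, Matrix.one_mulVec]
  have := vecPt_smul i 1 one_ne_zero
  simpa using this

theorem ptImage_mul {A B : M9} (hA : Cond A) (hB : Cond B) (i : Fin 63) :
    ptImage (A * B) i = ptImage A (ptImage B i) := by
  obtain ⟨c, hc, he⟩ := exists_scalar (v := B *ᵥ ptVec i) (by rw [qForm_mulVec hB]; exact ptVec_qForm i)
  set j := vecPt (B *ᵥ ptVec i) with hj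
  obtain ⟨d, hd, hd'⟩ := exists_scalar (v := A *ᵥ ptVec j) (by rw [qForm_mulVec hA]; exact ptVec_qForm j)
  show vecPt ((A * B) *ᵥ ptVec i) = vecPt (A *ᵥ ptVec j)
  rw [← Matrix.mulVec_mulVec, he, show (fun k => c * ptVec j k) = c • ptVec j from rfl, Matrix.mulVec_smul, hd']
  rw [show (c • fun k => d * ptVec (vecPt (A *ᵥ ptVec j)) k) = fun k => (c * d) * ptVec (vecPt (A *ᵥ ptVec j)) k
    from funext fun k => (mul_assoc c d _).symm]
  rw [vecPt_smul _ _ (mul_ne_zero hc hd), vecPt_smul _ _ hd]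

/-- The action on the non-isotropic points. -/
noncomputable def ptHom : SU9 →* Equiv.Perm (Fin 63) :=
  MonoidHom.mk' (fun g =>
    { toFun := ptImage (toM g)
      invFun := ptImage (toM g⁻¹)
      left_inv := fun i => by
        rw [← ptImage_mul (cond_toM _) (cond_toM _), ← toM_mul, inv_mul_cancel, toM_one, ptImage_one]
      right_inv := fun i => by
        rw [← ptImage_mul (cond_toM _) (cond_toM _), ← toM_mul, mul_inv_cancel, toM_one, ptImage_one] })
    (fun g h => Equiv.ext fun i => by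
      show ptImage (toM (g * h)) i = ptImage (toM g) (ptImage (toM h) i)
      rw [toM_mul, ptImage_mul (cond_toM _) (cond_toM _)])

theorem ptHom_ofM (A : M9) (h : Cond A) (i : Fin 63) : ptHom (ofM A h) i = ptImage A i := by
  show ptImage (toM (ofM A h)) i = _
  rw [toM_ofM]

end Cfsg.Agent.Lib.SmallUnitary
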