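import Mathlib
import Cfsg.Prelude.Def_DegreeGraph
import Cfsg.Agent.Lib.Chars.Induced
import Cfsg.Agent.Lib.Chars.Integral

/-!
A solvable group of order 6048 with an irreducible character of degree 42.
-/

set_option autoImplicit false

namespace Cfsg.Agent.Lib.SmallUnitary

open Cfsg
open scoped ComplexConjugate

/-- A linear character with trivial stabilizer outside a normal subgroup induces irreducibly. -/
theorem exists_degree_index {G : Type} [Group G] [Finite G] (N : Subgroup G) [N.Normal] (θ : N →* ℂ)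
    (hfree : ∀ x : G, x ∉ N → ∃ a : N, θ ⟨x⁻¹ * a * x, Subgroup.Normal.conj_mem' inferInstance _ a.2 x⟩ ≠ θ a) :
    N.index ∈ charDegrees G := by
  classical
  cases nonempty_fintype G
  have hθ : IsCharacter N (θ : N → ℂ) := by
    let ρ : Representation ℂ N (Fin 1 → ℂ) :=
      { toFun := fun a => θ a • (1 : Module.End ℂ (Fin 1 → ℂ))
        map_one' := by rw [map_one, one_smul]
        map_mul' := fun a b => by rw [map_mul, smul_mul_smul_comm, one_mul] }
    refine ⟨1, ρ, ?_⟩
    funext a
    show LinearMap.trace ℂ _ (θ a • (1 : Module.End ℂ (Fin 1 → ℂ))) = θ a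
    rw [map_smul, LinearMap.trace_one, Module.finrank_fin_fun, Nat.cast_one, smul_eq_mul, mul_one]
  have hconj : ∀ a : N, conj (θ a) = (θ a)⁻¹ := fun a => by
    have h1 : θ a ^ Nat.card N = 1 := by rw [← map_pow, pow_card_eq_one', map_one]
    rw [Complex.inv_eq_conj (Chars.norm_eq_one_of_pow_eq_one Nat.card_pos h1)]
  have hne : (Nat.card N : ℂ) ≠ 0 := Nat.cast_ne_zero.2 Nat.card_pos.ne'
  have hmem : ∀ x : G, ∀ a : N, x⁻¹ * (a : G) * x ∈ N := fun x a => Subgroup.Normal.conj_mem' inferInstance _ a.2 x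
  have hinner : ∀ x : G, ∑ a : N, θ a * conj (θ ⟨x⁻¹ * a * x, hmem x a⟩) = if x ∈ N then (Nat.card N : ℂ) else 0 := by
    intro x
    let c : N →* N :=
      { toFun := fun a => ⟨x⁻¹ * a * x, hmem x a⟩
        map_one' := Subtype.ext (by simp)
        map_mul' := fun a b => Subtype.ext (by simp [mul_assoc]) }
    let ψ : N →* ℂ := θ * (invMonoidHom.comp (θ.comp c))
    have hψ : ∀ a, ψ a = θ a * conj (θ ⟨x⁻¹ * a * x, hmem x a⟩) := fun a => by
      rw [hconj]
      rfl
    simp only [← hψ]
    split_ifs with hx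
    · have : ∀ a, ψ a = 1 := fun a => by
        have hc : c a = (⟨x, hx⟩ : N)⁻¹ * a * ⟨x, hx⟩ := rfl
        show θ a * (θ (c a))⁻¹ = 1
        rw [hc, map_mul, map_mul, mul_right_comm, ← map_mul θ (⟨x, hx⟩ : N)⁻¹, inv_mul_cancel, map_one, one_mul]
        exact mul_inv_cancel₀ fun h0 => by
          have := congrArg θ (mul_inv_cancel a)
          rw [map_mul, h0, zero_mul, map_one] at this
          exact zero_ne_one this
      simp [this]
    · refine sum_hom_units_eq_zero ψ fun he => ?_
      obtain ⟨a, ha⟩ := hfree x hx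
      refine ha ?_
      have h1 := DFunLike.congr_fun he a
      have h2 : θ a * (θ (c a))⁻¹ = 1 := h1
      exact (eq_of_mul_inv_eq_one h2).symm
  have hchar := Chars.isCharacter_indFun N hθ
  have hirr : IsIrrCharacter G (indFun N θ) := by
    rw [Chars.isIrrCharacter_iff_classInner_eq_one hchar,
      Chars.classInner_indFun_left N _ _ (Chars.isClassFunction_indFun N _)]
    have hres : ∀ a : N, indFun N θ (a : G) = (Nat.card N : ℂ)⁻¹ * ∑ x : G, θ ⟨x⁻¹ * a * x, hmem x a⟩ := fun a => by
      simp only [indFun]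
      congr 1
      exact Finset.sum_congr rfl fun x _ => Chars.extendByZero_of_mem _ (hmem x a)
    simp only [classInner, hres, map_mul, map_sum, map_inv₀, Complex.conj_natCast, Finset.mul_sum]
    rw [Finset.sum_comm]
    have : ∀ x : G, ∑ a : N, (Nat.card N : ℂ)⁻¹ * (θ a * ((Nat.card N : ℂ)⁻¹ * conj (θ ⟨x⁻¹ * a * x, hmem x a⟩)))
        = if x ∈ N then (Nat.card N : ℂ)⁻¹ else 0 := fun x => by
      rw [show (fun a : N => (Nat.card N : ℂ)⁻¹ * (θ a * ((Nat.card N : ℂ)⁻¹ * conj (θ ⟨x⁻¹ * a * x, hmem x a⟩))))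
        = fun a : N => ((Nat.card N : ℂ)⁻¹ * (Nat.card N : ℂ)⁻¹) * (θ a * conj (θ ⟨x⁻¹ * a * x, hmem x a⟩)) from
          funext fun a => by ring, ← Finset.mul_sum, hinner]
      split_ifs
      · rw [mul_assoc, inv_mul_cancel₀ hne, mul_one]
      · rw [mul_zero]
    rw [Finset.sum_congr rfl fun x _ => this x, Finset.sum_ite, Finset.sum_const_zero, add_zero, Finset.sum_const,
      nsmul_eq_mul, ← Fintype.card_subtype, Fintype.card_eq_nat_card]
    exact mul_inv_cancel₀ hne
  refine ⟨⟨_, hirr⟩, ?_⟩
  show Cfsg.charDegree (indFun N θ) = N.index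
  rw [Cfsg.charDegree, Chars.indFun_one_eq, map_one, mul_one, Complex.natCast_re, Nat.floor_natCast]

/-- the abelian normal subgroup -/
abbrev Base : Type := ((ZMod 2 × ZMod 2 × ZMod 2) × ZMod 2) × (ZMod 3 × ZMod 3)

/-- the automorphism of order 42 -/
def autoT : AddAut Base where
  toFun a := (((a.1.1.2.2, a.1.1.1 + a.1.1.2.2, a.1.1.2.1), a.1.2), (-a.2.1 - a.2.2, -a.2.2))
  invFun a := (((a.1.1.2.1 - a.1.1.1, a.1.1.2.2, a.1.1.1), a.1.2), (-a.2.1 + a.2.2, -a.2.2))
  left_inv := by decide +kernel
  right_inv := by decide +kernel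
  map_add' := by decide +kernel

/-- its multiplicative form -/
def mautT : MulAut (Multiplicative Base) := AddEquiv.toMultiplicative autoT

theorem mautT_pow_apply : ∀ a, (mautT ^ 42) a = a := by decide +kernel

theorem mautT_pow : mautT ^ 42 = 1 := MulEquiv.ext mautT_pow_apply

/-- the action -/
def act : Multiplicative (ZMod 42) →* MulAut (Multiplicative Base) where
  toFun k := mautT ^ k.toAdd.val
  map_one' := pow_zero _
  map_mul' k l := by
    rw [← pow_add, toAdd_mul, ZMod.val_add, ← pow_eq_pow_mod _ mautT_pow]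

/-- the solvable group -/
abbrev SolvH : Type := Multiplicative Base ⋊[act] Multiplicative (ZMod 42)

noncomputable instance fintypeSolvH : Fintype SolvH :=
  Fintype.ofEquiv _ SemidirectProduct.equivProd.symm

theorem natCard_SolvH : Nat.card SolvH = 6048 := by
  rw [SemidirectProduct.card, Nat.card_eq_fintype_card, Nat.card_eq_fintype_card]
  simp [Fintype.card_prod]

theorem isSolvable_SolvH : Group.IsSolvable SolvH :=
  have := Group.isSolvable_of_comm (G := Multiplicative Base) mul_comm
  have := Group.isSolvable_of_comm (G := Multiplicative (ZMod 42)) mul_comm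
  Group.isSolvable_of_ker_le_range (SemidirectProduct.inl (φ := act)) (SemidirectProduct.rightHom (φ := act))
    (SemidirectProduct.range_inl_eq_ker_rightHom (φ := act)).ge

/-- the exponent of the linear character -/
def lamExp (a : Base) : ZMod 6 := 3 * (a.1.1.1.val : ZMod 6) + 2 * (a.2.1.val : ZMod 6)

theorem lamExp_add : ∀ a b, lamExp (a + b) = lamExp a + lamExp b := by decide +kernel

theorem lamExp_free : ∀ k : ZMod 42, k ≠ 0 →
    ∃ a : Base, lamExp (Multiplicative.toAdd ((mautT ^ k.val) (Multiplicative.ofAdd a))) ≠ lamExp a := by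
  decide +kernel

theorem forty_two_mem : 42 ∈ charDegrees SolvH := by
  let N : Subgroup SolvH := (SemidirectProduct.rightHom (φ := act)).ker
  have hidx : N.index = 42 := by
    rw [Subgroup.index_ker, MonoidHom.range_eq_top_of_surjective _ SemidirectProduct.rightHom_surjective,
      Subgroup.card_top, Nat.card_eq_fintype_card]
    simp
  have hr : ∀ a : N, (a : SolvH).right = 1 := fun a => a.2
  let θ : N →* ℂ :=
    { toFun := fun a => ZMod.stdAddChar (lamExp (a : SolvH).left.toAdd)
      map_one' := by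
        show ZMod.stdAddChar (lamExp 0) = 1
        rw [show lamExp 0 = 0 by decide +kernel, AddChar.map_zero_eq_one]
      map_mul' := fun a b => by
        show ZMod.stdAddChar (lamExp (((a : SolvH) * (b : SolvH)).left).toAdd) = _
        rw [SemidirectProduct.mul_left, hr a, map_one, MulAut.one_apply, toAdd_mul, lamExp_add,
          AddChar.map_add_eq_mul] }
  refine Eq.mp (congrArg (· ∈ charDegrees SolvH) hidx) (exists_degree_index N θ fun x hx => ?_)
  have hk : x.right⁻¹ ≠ 1 := inv_ne_one.2 hx
  obtain ⟨a, ha⟩ := lamExp_free x.right⁻¹.toAdd hk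
  refine ⟨⟨SemidirectProduct.inl (Multiplicative.ofAdd a), SemidirectProduct.rightHom_inl _⟩, fun h => ha ?_⟩
  have h' := ZMod.injective_stdAddChar h
  have e : (x⁻¹ * SemidirectProduct.inl (Multiplicative.ofAdd a) * x).left = act x.right⁻¹ (Multiplicative.ofAdd a) := by
    simp only [SemidirectProduct.mul_left, SemidirectProduct.mul_right, SemidirectProduct.inv_left,
      SemidirectProduct.inv_right, SemidirectProduct.left_inl, SemidirectProduct.right_inl, map_inv, mul_one]
    rw [inv_mul_eq_div, div_mul_eq_mul_div, mul_div_cancel_right]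
  rw [e] at h'
  exact h'

end Cfsg.Agent.Lib.SmallUnitary
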